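/-
Numbers packed from slots of a fixed width.
-/
import Mathlib

set_option autoImplicit false

namespace CfsgLib.Co0Model

/-- The number with the given slots of width `w`. -/
def pk (w : ℕ) : ℕ → (ℕ → ℕ) → ℕ
  | 0, _ => 0
  | n + 1, f => f 0 + 2 ^ w * pk w n fun i => f (i + 1)

variable (w : ℕ)

theorem pk_congr : ∀ (n : ℕ) (f g : ℕ → ℕ), (∀ i < n, f i = g i) → pk w n f = pk w n g := by
  intro n
  induction n with
  | zero => intros; rfl
  | succ n ih =>
    intro f g h
    simp only [pk]
    rw [h 0 (by omega), ih _ _ fun i hi => h (i + 1) (by omega)]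

theorem pk_add : ∀ (n : ℕ) (f g : ℕ → ℕ), pk w n f + pk w n g = pk w n fun i => f i + g i := by
  intro n
  induction n with
  | zero => intros; rfl
  | succ n ih => intro f g; simp only [pk, ← ih]; ring

theorem pk_mul_const : ∀ (n : ℕ) (f : ℕ → ℕ) (c : ℕ), pk w n f * c = pk w n fun i => f i * c := by
  intro n
  induction n with
  | zero => intros; simp [pk]
  | succ n ih => intro f c; simp only [pk, ← ih]; ring

theorem pk_zero : ∀ n : ℕ, pk w n (fun _ => 0) = 0 := by
  intro n
  induction n with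
  | zero => rfl
  | succ n ih => simp [pk, ih]

theorem pk_append : ∀ (a b : ℕ) (f : ℕ → ℕ),
    pk w (a + b) f = pk w a f + 2 ^ (w * a) * pk w b fun i => f (i + a) := by
  intro a
  induction a with
  | zero => intros; simp [pk]
  | succ a ih =>
    intro b f
    rw [show a + 1 + b = a + b + 1 by omega, pk, pk, ih]
    rw [pk_congr w b (fun i => f (i + (a + 1))) (fun i => f (i + a + 1)) fun i _ => by rw [Nat.add_assoc]]
    ring

theorem pk_blocks (n : ℕ) : ∀ (m : ℕ) (f : ℕ → ℕ),
    pk w (m * n) f = pk (w * n) m fun i => pk w n fun j => f (n * i + j) := by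
  intro m
  induction m with
  | zero => intros; simp [pk]
  | succ m ih =>
    intro f
    rw [show (m + 1) * n = n + m * n by ring, pk_append, pk, ih]
    congr 1
    · exact pk_congr w n _ _ fun j _ => by simp
    · congr 1
      exact pk_congr _ m _ _ fun i _ => pk_congr w n _ _ fun j _ => congrArg f (by ring)

theorem pk_lt : ∀ (n : ℕ) (f : ℕ → ℕ), (∀ i < n, f i < 2 ^ w) → pk w n f < 2 ^ (w * n) := by
  intro n
  induction n with
  | zero => intros; simp [pk]
  | succ n ih =>
    intro f h
    have h1 := ih (fun i => f (i + 1)) fun i hi => h (i + 1) (by omega)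
    have h2 := h 0 (by omega)
    calc pk w (n + 1) f < 2 ^ w + 2 ^ w * pk w n (fun i => f (i + 1)) := by simp only [pk]; omega
      _ = 2 ^ w * (pk w n (fun i => f (i + 1)) + 1) := by ring
      _ ≤ 2 ^ w * 2 ^ (w * n) := Nat.mul_le_mul_left _ h1
      _ = 2 ^ (w * (n + 1)) := by rw [← pow_add]; congr 1; ring

theorem testBit_pk {w : ℕ} (hw : 0 < w) : ∀ (n : ℕ) (f : ℕ → ℕ), (∀ i < n, f i < 2 ^ w) →
    ∀ b, (pk w n f).testBit b = (decide (b < w * n) && (f (b / w)).testBit (b % w)) := by
  intro n
  induction n with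
  | zero => intros; simp [pk]
  | succ n ih =>
    intro f h b
    rw [pk, Nat.add_comm, Nat.testBit_two_pow_mul_add _ (h 0 (by omega))]
    rcases Nat.lt_or_ge b w with hb | hb
    · have : b < w * (n + 1) := lt_of_lt_of_le hb (Nat.le_mul_of_pos_right _ (by omega))
      simp [hb, this, Nat.div_eq_of_lt hb, Nat.mod_eq_of_lt hb]
    · rw [if_neg (by omega), ih _ fun i hi => h (i + 1) (by omega)]
      have e1 : b / w = (b - w) / w + 1 := by
        conv_lhs => rw [show b = b - w + w by omega, Nat.add_div_right _ hw]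
      have e2 : b % w = (b - w) % w := Nat.mod_eq_sub_mod hb
      have e3 : b < w * (n + 1) ↔ b - w < w * n := by rw [Nat.mul_succ]; omega
      simp [e1, e2, e3]

/-- Shifting and masking act on each slot. -/
theorem shift_mask {w : ℕ} {s t n : ℕ} {f : ℕ → ℕ} (hw : 0 < w) (hst : s + t ≤ w)
    (hf : ∀ i < n, f i < 2 ^ w) :
    (pk w n f >>> s) &&& pk w n (fun _ => 2 ^ t - 1) = pk w n fun i => f i / 2 ^ s % 2 ^ t := by
  have ht : 2 ^ t ≤ 2 ^ w := Nat.pow_le_pow_right (by norm_num) (by omega)
  have hpos : 0 < 2 ^ t := Nat.two_pow_pos t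
  refine Nat.eq_of_testBit_eq fun b => ?_
  rw [Nat.testBit_and, Nat.testBit_shiftRight, testBit_pk hw n f hf,
    testBit_pk hw n _ (fun i _ => by omega),
    testBit_pk hw n _ (fun i _ => lt_of_lt_of_le (Nat.mod_lt _ hpos) ht),
    Nat.testBit_two_pow_sub_one, Nat.testBit_mod_two_pow, Nat.testBit_div_two_pow]
  by_cases hb : b < w * n
  · by_cases hbt : b % w < t
    · have hlt : s + b % w < w := by omega
      have e : s + b = s + b % w + w * (b / w) := by have := Nat.mod_add_div b w; omega
      have e1 : (s + b) / w = b / w := by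
        rw [e, Nat.add_mul_div_left _ _ hw, Nat.div_eq_of_lt hlt, zero_add]
      have e2 : (s + b) % w = s + b % w := by
        rw [e, Nat.add_mul_mod_self_left, Nat.mod_eq_of_lt hlt]
      have hb' : b / w < n := Nat.div_lt_of_lt_mul hb
      have hin : s + b < w * n := by
        have : w * (b / w + 1) ≤ w * n := Nat.mul_le_mul_left _ hb'
        rw [Nat.mul_succ] at this
        omega
      rw [Nat.add_comm s] at hin e1 e2
      simp [hb, hbt, hin, e1, e2, Nat.add_comm s]
    · simp [hb, hbt]
  · simp [hb]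

theorem digit_pk : ∀ (k n : ℕ) (f : ℕ → ℕ), (∀ i < n, f i < 2 ^ w) → k < n →
    pk w n f >>> (w * k) % 2 ^ w = f k := by
  intro k
  induction k with
  | zero =>
    intro n f h hk
    obtain ⟨n, rfl⟩ := Nat.exists_eq_succ_of_ne_zero (show n ≠ 0 by omega)
    simp [pk, Nat.add_mul_mod_self_left, Nat.mod_eq_of_lt (h 0 (by omega))]
  | succ k ih =>
    intro n f h hk
    obtain ⟨n, rfl⟩ := Nat.exists_eq_succ_of_ne_zero (show n ≠ 0 by omega)
    rw [show w * (k + 1) = w + w * k by ring, Nat.shiftRight_add, pk, Nat.shiftRight_eq_div_pow (m := _) (n := w),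
      Nat.add_mul_div_left _ _ (Nat.two_pow_pos w), Nat.div_eq_of_lt (h 0 (by omega)), zero_add]
    exact ih n _ (fun i hi => h (i + 1) (by omega)) (by omega)

theorem pk_injective {n : ℕ} {f g : ℕ → ℕ} (hf : ∀ i < n, f i < 2 ^ w) (hg : ∀ i < n, g i < 2 ^ w)
    (h : pk w n f = pk w n g) : ∀ i < n, f i = g i := fun i hi => by
  rw [← digit_pk w i n f hf hi, ← digit_pk w i n g hg hi, h]

end CfsgLib.Co0Model
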