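/-
A product of packed matrices of size 24 over the integers modulo 31.
-/
import Cfsg.Agent.Co0Model.Pack
import Cfsg.Agent.Co0Model.Masks
import Cfsg.Agent.CentralCert.Basic

set_option autoImplicit false

namespace CfsgLib.Co0Model

open CfsgLib.ExtCert (forceN forceN_eq)

/-- The sum of the products of a column and a row. -/
def mulRaw (A B : ℕ) : ℕ → ℕ
  | 0 => 0
  | k + 1 => forceN (mulRaw A B k) fun r =>
      r + ((A >>> (16 * k)) &&& colMask) * ((B >>> (384 * k)) &&& rowMask)

/-- One reduction step in every slot. -/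
def foldStep (X : ℕ) : ℕ := forceN X fun X => (X &&& maskFive) + ((X >>> 5) &&& maskEleven)

/-- The final reduction in every slot. -/
def lastStep (X : ℕ) : ℕ := forceN X fun X => (X + ((X + maskOne) >>> 5 &&& maskOne)) &&& maskFive

/-- Reduction modulo 31 in every slot. -/
def red (X : ℕ) : ℕ := lastStep (foldStep (foldStep (foldStep X)))

/-- The product. -/
def mmul (A B : ℕ) : ℕ := forceN A fun A => forceN B fun B => red (mulRaw A B 24)

theorem colMask_eq : colMask = pk 384 24 fun _ => 2 ^ 16 - 1 := by decide +kernel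
theorem rowMask_eq : rowMask = 2 ^ 384 - 1 := by decide +kernel
theorem maskFive_eq : maskFive = pk 16 576 fun _ => 2 ^ 5 - 1 := by decide +kernel
theorem maskEleven_eq : maskEleven = pk 16 576 fun _ => 2 ^ 11 - 1 := by decide +kernel
theorem maskOne_eq : maskOne = pk 16 576 fun _ => 2 ^ 1 - 1 := by decide +kernel

/-- The packed code of a matrix. -/
def packM (a : ℕ → ℕ → ℕ) : ℕ := pk 16 576 fun t => a (t / 24) (t % 24)

theorem packM_rows (a : ℕ → ℕ → ℕ) : packM a = pk 384 24 fun i => pk 16 24 (a i) := by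
  have h := pk_blocks 16 24 24 (fun t => a (t / 24) (t % 24))
  norm_num at h
  rw [packM, h]
  refine pk_congr _ _ _ _ fun i _ => pk_congr _ _ _ _ fun j hj => ?_
  exact congrArg₂ a (by omega) (by omega)

theorem row_lt {a : ℕ → ℕ → ℕ} (ha : ∀ i j, a i j < 31) (i : ℕ) : pk 16 24 (a i) < 2 ^ 384 :=
  pk_lt 16 24 _ fun j _ => lt_trans (ha i j) (by norm_num)

theorem col_spec {a : ℕ → ℕ → ℕ} (ha : ∀ i j, a i j < 31) {k : ℕ} (hk : k < 24) :
    (packM a >>> (16 * k)) &&& colMask = pk 384 24 fun i => a i k := by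
  rw [colMask_eq, packM_rows, shift_mask (by norm_num) (by omega) fun i _ => row_lt ha i]
  refine pk_congr _ _ _ _ fun i _ => ?_
  rw [← Nat.shiftRight_eq_div_pow]
  exact digit_pk 16 k 24 (a i) (fun j _ => lt_trans (ha i j) (by norm_num)) hk

theorem row_spec {b : ℕ → ℕ → ℕ} (hb : ∀ i j, b i j < 31) {k : ℕ} (hk : k < 24) :
    (packM b >>> (384 * k)) &&& rowMask = pk 16 24 (b k) := by
  rw [rowMask_eq, Nat.and_two_pow_sub_one_eq_mod, packM_rows,
    digit_pk 384 k 24 _ (fun i _ => row_lt hb i) hk]

theorem mulRaw_spec {a b : ℕ → ℕ → ℕ} (ha : ∀ i j, a i j < 31) (hb : ∀ i j, b i j < 31) :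
    ∀ n ≤ 24, mulRaw (packM a) (packM b) n =
      pk 384 24 fun i => pk 16 24 fun j => ∑ k ∈ Finset.range n, a i k * b k j := by
  intro n
  induction n with
  | zero => intro _; simp [mulRaw, pk_zero]
  | succ n ih =>
    intro hn
    rw [mulRaw, forceN_eq, ih (by omega), col_spec ha (by omega), row_spec hb (by omega), pk_mul_const, pk_add]
    refine pk_congr _ _ _ _ fun i _ => ?_
    rw [Nat.mul_comm, pk_mul_const, pk_add]
    refine pk_congr _ _ _ _ fun j _ => ?_
    rw [Finset.sum_range_succ, Nat.mul_comm (b n j)]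

theorem foldStep_spec {f : ℕ → ℕ} (hf : ∀ t < 576, f t < 2 ^ 16) :
    foldStep (pk 16 576 f) = pk 16 576 fun t => f t % 32 + f t / 32 := by
  have h0 := shift_mask (w := 16) (s := 0) (t := 5) (by norm_num) (by norm_num) hf
  rw [Nat.shiftRight_zero] at h0
  rw [foldStep, forceN_eq, maskFive_eq, maskEleven_eq, h0,
    shift_mask (w := 16) (s := 5) (t := 11) (by norm_num) (by norm_num) hf, pk_add]
  refine pk_congr _ _ _ _ fun t ht => ?_
  have := hf t ht
  norm_num at *
  omega

theorem lastStep_spec {f : ℕ → ℕ} (hf : ∀ t < 576, f t ≤ 31) :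
    lastStep (pk 16 576 f) = pk 16 576 fun t => f t % 31 := by
  rw [lastStep, forceN_eq, maskOne_eq, pk_add,
    shift_mask (w := 16) (s := 5) (t := 1) (by norm_num) (by norm_num)
      (fun t ht => by have := hf t ht; norm_num; omega),
    pk_add, maskFive_eq]
  have h0 := shift_mask (w := 16) (s := 0) (t := 5) (n := 576)
    (f := fun t => f t + (f t + (2 ^ 1 - 1)) / 2 ^ 5 % 2 ^ 1) (by norm_num) (by norm_num)
    (fun t ht => by have := hf t ht; norm_num; omega)
  rw [Nat.shiftRight_zero] at h0
  rw [h0]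
  refine pk_congr _ _ _ _ fun t ht => ?_
  have := hf t ht
  revert this
  generalize f t = x
  intro hx
  interval_cases x <;> rfl

theorem red_spec {f : ℕ → ℕ} (hf : ∀ t < 576, f t ≤ 22000) :
    red (pk 16 576 f) = pk 16 576 fun t => f t % 31 := by
  rw [red, foldStep_spec fun t ht => lt_of_le_of_lt (hf t ht) (by norm_num),
    foldStep_spec fun t ht => by have := hf t ht; omega,
    foldStep_spec fun t ht => by have := hf t ht; omega,
    lastStep_spec fun t ht => by have := hf t ht; omega]
  refine pk_congr _ _ _ _ fun t ht => ?_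
  have := hf t ht
  omega

/-- The product of codes is the code of the product modulo 31. -/
theorem mmul_spec {a b : ℕ → ℕ → ℕ} (ha : ∀ i j, a i j < 31) (hb : ∀ i j, b i j < 31) :
    mmul (packM a) (packM b) = packM fun i j => (∑ k ∈ Finset.range 24, a i k * b k j) % 31 := by
  rw [mmul, forceN_eq, forceN_eq, mulRaw_spec ha hb 24 le_rfl, ← packM_rows]
  unfold packM
  refine red_spec fun t _ => ?_
  calc ∑ k ∈ Finset.range 24, a (t / 24) k * b k (t % 24) ≤ ∑ _k ∈ Finset.range 24, 900 :=
        Finset.sum_le_sum fun k _ => by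
          have h1 := ha (t / 24) k; have h2 := hb k (t % 24)
          calc _ ≤ 30 * 30 := Nat.mul_le_mul (by omega) (by omega)
            _ = 900 := by norm_num
    _ ≤ 22000 := by simp

end CfsgLib.Co0Model
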