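/-
A computable faithful code for the automorphisms of the lattice: matrices modulo 31.
-/
import Cfsg.Agent.Co0Model.Mul
import Cfsg.Agent.OutConway.Sim

set_option autoImplicit false

namespace CfsgLib.Co0Model

open Cfsg CfsgLib CfsgLib.Golay CfsgLib.Leech CfsgLib.OutConway CfsgLib.CentralCert

/-- The residue of four times an integer. -/
def res (x : ℤ) : ℕ := ((4 * x) % 31).toNat

theorem res_lt (x : ℤ) : res x < 31 := by unfold res; omega

/-- The code of an automorphism. -/
def enc (g : Co0) : ℕ := packM fun i j => res (mat g (pt i) (pt j))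

theorem sum_pt {M : Type*} [AddCommMonoid M] (f : GolayPt → M) :
    ∑ j ∈ Finset.range 24, f (pt j) = ∑ q : GolayPt, f q :=
  Finset.sum_bij (fun j _ => pt j) (fun _ _ => Finset.mem_univ _)
    (fun a ha b hb e => by rw [← idx_pt a (Finset.mem_range.1 ha), e, idx_pt b (Finset.mem_range.1 hb)])
    (fun q _ => ⟨idx q, Finset.mem_range.2 (idx_lt q), pt_idx q⟩) (fun _ _ => rfl)

theorem mat_abs_le (g : Co0) (p q : GolayPt) : -8 ≤ mat g p q ∧ mat g p q ≤ 8 := by
  have h : mat g p q ^ 2 ≤ 64 := by
    rw [← sqNorm_eightAt q, ← sqNorm_smul g (eightAt q)]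
    exact Finset.single_le_sum (f := fun i => ((g • eightAt q : leechLattice) : GolayPt → ℤ) i ^ 2)
      (fun i _ => sq_nonneg _) (Finset.mem_univ p)
  constructor <;> nlinarith

theorem enc_injective : Function.Injective enc := by
  intro g h e
  refine eq_of_mat_eq fun p q => ?_
  have hlt := idx_lt p
  have hlq := idx_lt q
  unfold enc packM at e
  have e' := pk_injective 16 (fun t _ => lt_trans (res_lt _) (by norm_num))
    (fun t _ => lt_trans (res_lt _) (by norm_num)) e (24 * idx p + idx q) (by omega)
  simp only [show (24 * idx p + idx q) / 24 = idx p by omega,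
    show (24 * idx p + idx q) % 24 = idx q by omega, pt_idx] at e'
  obtain ⟨a1, a2⟩ := mat_abs_le g p q
  obtain ⟨b1, b2⟩ := mat_abs_le h p q
  unfold res at e'
  omega

theorem enc_mul (g h : Co0) : enc (g * h) = mmul (enc g) (enc h) := by
  rw [enc, enc, enc, mmul_spec (fun i j => res_lt _) (fun i j => res_lt _)]
  refine congrArg packM (funext fun i => funext fun j => ?_)
  have hm := mat_mul_vec g (h • eightAt (pt j)) (pt i)
  rw [← mul_smul, ← sum_pt] at hm
  change 8 * mat (g * h) (pt i) (pt j) = ∑ k ∈ Finset.range 24, mat g (pt i) (pt k) * mat h (pt k) (pt j) at hm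
  have key : ((∑ k ∈ Finset.range 24, res (mat g (pt i) (pt k)) * res (mat h (pt k) (pt j)) : ℕ) : ℤ) % 31 =
      (4 * mat (g * h) (pt i) (pt j)) % 31 := by
    have e1 : (∑ k ∈ Finset.range 24, 16 * (mat g (pt i) (pt k) * mat h (pt k) (pt j))) % 31 =
        (4 * mat (g * h) (pt i) (pt j)) % 31 := by
      rw [← Finset.mul_sum, ← hm]; omega
    rw [← e1, Nat.cast_sum]
    refine Int.ModEq.sum fun k _ => ?_
    simp only [res, Nat.cast_mul, Int.toNat_of_nonneg (Int.emod_nonneg _ (by norm_num : (31 : ℤ) ≠ 0))]
    rw [show 16 * (mat g (pt i) (pt k) * mat h (pt k) (pt j)) =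
      (4 * mat g (pt i) (pt k)) * (4 * mat h (pt k) (pt j)) by ring]
    exact (Int.mod_modEq _ 31).mul (Int.mod_modEq _ 31)
  unfold res at key ⊢
  omega

theorem oneCode_eq : oneCode = packM fun i j => if i = j then 1 else 0 := by decide +kernel

theorem enc_one : enc 1 = oneCode := by
  rw [oneCode_eq]
  unfold enc packM
  refine pk_congr _ _ _ _ fun t ht => ?_
  have h1 : t / 24 < 24 := by omega
  have h2 : t % 24 < 24 := by omega
  simp only [res, mat, one_smul, eightAt_apply]
  by_cases hij : t / 24 = t % 24
  · simp [hij]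
  · have : pt (t / 24) ≠ pt (t % 24) := fun e => hij (by rw [← idx_pt _ h1, e, idx_pt _ h2])
    simp [hij, this]

/-- The model of the full group. -/
def model : Model Co0 ℕ where
  enc := enc
  one := oneCode
  mul := mmul
  inj := enc_injective
  enc_one := enc_one
  enc_mul := enc_mul

/-- The model of a subgroup. -/
def modelSub (H : Subgroup Co0) : Model H ℕ where
  enc x := enc (x : Co0)
  one := oneCode
  mul := mmul
  inj := enc_injective.comp Subtype.val_injective
  enc_one := enc_one
  enc_mul x y := enc_mul x y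

/-- The code of an automorphism given by its action on coordinates. -/
def encF (f : List ℤ → List ℤ) : ℕ := packM fun i j => res ((f (unit8 j)).getD i 0)

theorem enc_of_sim {g : Co0} {f : List ℤ → List ℤ} (h : Sim g f) : enc g = encF f := by
  unfold enc encF packM
  refine pk_congr _ _ _ _ fun t ht => ?_
  have h1 : t / 24 < 24 := by omega
  have h2 : t % 24 < 24 := by omega
  have e : unit8 (t % 24) = co (eightAt (pt (t % 24)) : GolayPt → ℤ) := by rw [co_eightAt, idx_pt _ h2]
  beta_reduce
  rw [e, ← h]
  conv_rhs => rw [← idx_pt _ h1, getD_co]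
  rfl

end CfsgLib.Co0Model
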