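/-
Injectivity of normal forms by orbits of fixed vectors.
-/
import Cfsg.Agent.Co0Model.Model
import Cfsg.Agent.CentralCert.Polycyclic

set_option autoImplicit false

namespace CfsgLib.Co0Model

open CfsgLib.ExtCert (forceN forceN_eq ev ev_cons ev_nil ev_append)
open CfsgLib.CentralCert

/-- The code of a matrix with the given columns. -/
def vecV (l : List (List ℕ)) : ℕ := packM fun i j => (l.getD j []).getD i 0 % 31

theorem vecV_lt (l : List (List ℕ)) (i j : ℕ) : (l.getD j []).getD i 0 % 31 < 31 :=
  Nat.mod_lt _ (by norm_num)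

theorem mmul_assoc {a b c : ℕ → ℕ → ℕ} (ha : ∀ i j, a i j < 31) (hb : ∀ i j, b i j < 31)
    (hc : ∀ i j, c i j < 31) :
    mmul (mmul (packM a) (packM b)) (packM c) = mmul (packM a) (mmul (packM b) (packM c)) := by
  rw [mmul_spec ha hb, mmul_spec hb hc, mmul_spec (fun i j => Nat.mod_lt _ (by norm_num)) hc,
    mmul_spec ha (fun i j => Nat.mod_lt _ (by norm_num))]
  refine congrArg packM (funext fun i => funext fun j => ?_)
  refine (ZMod.natCast_eq_natCast_iff' _ _ 31).1 ?_
  simp only [Nat.cast_sum, Nat.cast_mul, ZMod.natCast_mod, Finset.sum_mul, Finset.mul_sum]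
  rw [Finset.sum_comm]
  exact Finset.sum_congr rfl fun k _ => Finset.sum_congr rfl fun l _ => mul_assoc _ _ _

theorem enc_assoc (g h : Cfsg.Co0) (l : List (List ℕ)) :
    mmul (mmul (enc g) (enc h)) (vecV l) = mmul (enc g) (mmul (enc h) (vecV l)) := by
  unfold enc vecV
  exact mmul_assoc (fun i j => res_lt _) (fun i j => res_lt _) (vecV_lt l)

variable (p : ℕ) (T : List ℕ)

/-- The tests: each segment moves a vector regularly that the later generators fix. -/
def segsOK : ℕ → List (ℕ × List (List ℕ)) → ℕ → Bool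
  | a, [], n => stdCodesK p oneCode mmul T a (n - a) (Bst.fresh .leaf)
  | a, (d, l) :: r, n =>
    Nat.ble (a + d) n &&
      forceN (vecV l) (fun V =>
        ((List.range n).all fun i => Nat.blt i (a + d) || Nat.beq (mmul (T.getD i oneCode) V) V) &&
        stdCodesK p oneCode mmul T a d fun L => Bst.fresh .leaf (L.map fun u => mmul u V)) &&
      segsOK (a + d) r n

attribute [local irreducible] mmul vecV oneCode enc packM in
theorem segs_inj {H : Subgroup Cfsg.Co0} (s : ℕ → H)
    (hs : ∀ i, (modelSub H).enc (s i) = T.getD i oneCode) : ∀ (r : List (ℕ × List (List ℕ))) (a n : ℕ),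
    segsOK p T a r n = true → ∀ u ∈ stdWords p a (n - a), ∀ v ∈ stdWords p a (n - a),
      ev s u = ev s v → u = v := by
  have htab : ∀ w, tab oneCode mmul T w = (modelSub H).enc (ev s w) := fun w =>
    ((modelSub H).tab_spec hs w).symm
  intro r
  induction r with
  | nil =>
    intro a n h u hu v hv e
    rw [segsOK, stdCodesK_eq] at h
    exact List.inj_on_of_nodup_map (Bst.fresh_spec _ _ h).1 hu hv (by rw [htab, htab, e])
  | cons e r ih =>
    obtain ⟨d, l⟩ := e
    intro a n h u hu v hv huv
    simp only [segsOK, forceN_eq, stdCodesK_eq, Bool.and_eq_true, List.all_eq_true, List.mem_range,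
      Bool.or_eq_true, Nat.blt_eq, Nat.beq_eq, Nat.ble_eq] at h
    obtain ⟨⟨hle, hfix, hfr⟩, hrest⟩ := h
    rw [show n - a = d + (n - (a + d)) by omega] at hu hv
    obtain ⟨u₁, hu₁, u₂, hu₂, rfl⟩ := stdWords_split d _ a u hu
    obtain ⟨v₁, hv₁, v₂, hv₂, rfl⟩ := stdWords_split d _ a v hv
    let f : H → ℕ := fun g => mmul ((modelSub H).enc g) (vecV l)
    have hassoc : ∀ g g' : H, f (g * g') = mmul ((modelSub H).enc g) (f g') := fun g g' => by
      simp only [f]
      rw [(modelSub H).enc_mul]
      exact enc_assoc (g : Cfsg.Co0) (g' : Cfsg.Co0) l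
    have hfixw : ∀ w : List ℕ, (∀ i ∈ w, a + d ≤ i ∧ i < n) → ∀ g : H, f (g * ev s w) = f g := by
      intro w
      induction w with
      | nil => intro _ g; rw [ev_nil, mul_one]
      | cons b w ihw =>
        intro hw g
        obtain ⟨hb1, hb2⟩ := hw b (by simp)
        rw [ev_cons, ← mul_assoc, ihw (fun i hi => hw i (List.mem_cons_of_mem _ hi)), hassoc]
        have : f (s b) = vecV l := by
          simp only [f]
          rw [hs b]
          rcases hfix b hb2 with h | h
          · omega
          · exact h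
        rw [this]
    have hmem : ∀ w ∈ stdWords p (a + d) (n - (a + d)), ∀ i ∈ w, a + d ≤ i ∧ i < n := fun w hw i hi => by
      have := stdWords_mem _ _ w hw i hi
      omega
    rw [ev_append, ev_append] at huv
    have h1 : f (ev s u₁) = f (ev s v₁) := by
      rw [← hfixw u₂ (hmem u₂ hu₂) (ev s u₁), huv, hfixw v₂ (hmem v₂ hv₂)]
    rw [List.map_map] at hfr
    obtain rfl : u₁ = v₁ := List.inj_on_of_nodup_map (Bst.fresh_spec _ _ hfr).1 hu₁ hv₁ (by
      simp only [Function.comp_apply, htab]
      exact h1)
    rw [ih (a + d) n hrest u₂ hu₂ v₂ hv₂ (mul_left_cancel huv)]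

attribute [local irreducible] mmul vecV oneCode enc packM in
/-- The codes of the standard words are distinct. -/
theorem segs_nodup {H : Subgroup Cfsg.Co0} (D : Upper) {x : ℕ → H} {B : List ℕ}
    (hx : ∀ i, (modelSub H).enc (x i) = B.getD i oneCode) (hT : D.sTab oneCode mmul B = T)
    (hNF : D.NF = stdWords p 0 D.W.length) {r : List (ℕ × List (List ℕ))}
    (h : segsOK p T 0 r D.W.length = true) :
    (D.NF.map (tab oneCode mmul (D.sTab oneCode mmul B))).Nodup := by
  rw [hT, hNF]
  let s : ℕ → H := fun j => ev x (D.W.getD j [])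
  have hs : ∀ i, (modelSub H).enc (s i) = T.getD i oneCode := fun i => by
    rw [← hT]
    show (modelSub H).enc (ev x (D.W.getD i [])) = _
    rw [(modelSub H).tab_spec hx, Upper.sTab]
    rcases lt_or_ge i D.W.length with hi | hi
    · rw [List.getD_eq_getElem (D.W.map _) _ (by simpa using hi), List.getElem_map,
        List.getD_eq_getElem _ _ hi]
      rfl
    · rw [List.getD_eq_default _ _ hi, List.getD_eq_default _ _ (by simpa using hi)]
      rfl
  refine (stdWords_nodup p _ 0).map_on fun u hu v hv e => ?_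
  refine segs_inj p T s hs r 0 D.W.length h u (by simpa using hu) v (by simpa using hv)
    ((modelSub H).inj ?_)
  have htab : ∀ w, (modelSub H).enc (ev s w) = tab oneCode mmul T w := fun w => (modelSub H).tab_spec hs w
  rw [htab, htab, e]

end CfsgLib.Co0Model
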