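/-
Straight line programs in a group with coded elements.
-/
import Cfsg.Agent.CentralCert.Basic

set_option autoImplicit false

namespace CfsgLib.Co0Model

open CfsgLib.ExtCert (forceN forceN_eq)
open CfsgLib.CentralCert

/-- A binary tree addressed by the digits of an index. -/
inductive DTree (α : Type*) where
  | leaf
  | node (v : α) (l r : DTree α)

namespace DTree

variable {α β : Type*}

/-- Read a position. -/
def get (d : α) : DTree α → ℕ → α
  | leaf, _ => d
  | node v l r, i => if Nat.beq i 0 then v else if Nat.beq (i % 2) 1 then l.get d (i / 2) else r.get d ((i - 1) / 2)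

/-- Write a position and pass on the new tree. -/
def setK {γ : Type*} (d : α) : ℕ → DTree α → ℕ → α → (DTree α → γ) → γ
  | 0, t, _, _, k => k t
  | f + 1, t, i, v, k =>
    match t with
    | leaf => if Nat.beq i 0 then k (node v leaf leaf)
        else if Nat.beq (i % 2) 1 then setK d f leaf (i / 2) v fun l' => k (node d l' leaf)
        else setK d f leaf ((i - 1) / 2) v fun r' => k (node d leaf r')
    | node a l r => if Nat.beq i 0 then k (node v l r)
        else if Nat.beq (i % 2) 1 then setK d f l (i / 2) v fun l' => k (node a l' r)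
        else setK d f r ((i - 1) / 2) v fun r' => k (node a l r')

/-- Apply a function everywhere. -/
def map (φ : α → β) : DTree α → DTree β
  | leaf => leaf
  | node v l r => node (φ v) (l.map φ) (r.map φ)

theorem get_map (φ : α → β) (d : α) : ∀ (t : DTree α) (i : ℕ), (t.map φ).get (φ d) i = φ (t.get d i) := by
  intro t
  induction t with
  | leaf => intro i; rfl
  | node v l r ihl ihr => intro i; simp only [map, get]; split_ifs <;> simp [ihl, ihr]

theorem setK_map {γ δ : Type*} (φ : α → β) (ψ : γ → δ) (d : α) : ∀ (f : ℕ) (t : DTree α) (i : ℕ) (v : α)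
    (k : DTree α → γ) (k' : DTree β → δ), (∀ u, ψ (k u) = k' (u.map φ)) →
    ψ (setK d f t i v k) = setK (φ d) f (t.map φ) i (φ v) k' := by
  intro f
  induction f with
  | zero => intro t i v k k' h; exact h t
  | succ f ih =>
    intro t i v k k' h
    cases t <;> simp only [setK, map] <;> split_ifs <;>
      first | exact h _ | exact ih _ _ _ _ _ fun u => h _

end DTree

/-- Run a program in a monoid: each step stores the product of two earlier values. -/
def slpG {M : Type*} [Monoid M] : List (ℕ × ℕ) → DTree M → ℕ → DTree M
  | [], t, _ => t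
  | (a, b) :: ps, t, n => DTree.setK 1 40 t n (t.get 1 a * t.get 1 b) fun t' => slpG ps t' (n + 1)

/-- Run a program on codes. -/
def slpN (one : ℕ) (mul : ℕ → ℕ → ℕ) : List (ℕ × ℕ) → DTree ℕ → ℕ → DTree ℕ
  | [], t, _ => t
  | (a, b) :: ps, t, n => forceN n fun n => forceN (mul (t.get one a) (t.get one b)) fun v =>
      DTree.setK one 40 t n v fun t' => slpN one mul ps t' (n + 1)

/-- The tree of three generators. -/
def start3 {α : Type*} (x y z : α) : DTree α := .node x (.node y .leaf .leaf) (.node z .leaf .leaf)

/-- The values at the given positions. -/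
def pick {α : Type*} (d : α) (t : DTree α) (sel : List ℕ) : List α := sel.map fun i => t.get d i

variable {G : Type*} [Group G] (md : Model G ℕ)

theorem map_slp : ∀ (ps : List (ℕ × ℕ)) (t : DTree G) (n : ℕ),
    (slpG ps t n).map md.enc = slpN md.one md.mul ps (t.map md.enc) n := by
  intro ps
  induction ps with
  | nil => intro t n; rfl
  | cons e ps ih =>
    intro t n
    obtain ⟨a, b⟩ := e
    rw [slpG, slpN, forceN_eq, forceN_eq, ← md.enc_one, DTree.get_map, DTree.get_map, ← md.enc_mul]
    refine DTree.setK_map md.enc (fun u => DTree.map md.enc u) 1 40 t n _ _ _ fun u => ?_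
    rw [md.enc_one]
    exact ih u (n + 1)

theorem getD_map_enc (l : List G) (i : ℕ) : (l.map md.enc).getD i md.one = md.enc (l.getD i 1) := by
  simp only [List.getD_eq_getElem?_getD, List.getElem?_map]
  cases l[i]? <;> simp [md.enc_one]

/-- The codes of selected values of a program. -/
theorem enc_pick {ps : List (ℕ × ℕ)} {t : DTree G} {n : ℕ} {base : DTree ℕ} {B : List ℕ} {sel : List ℕ}
    (hb : t.map md.enc = base) (hB : pick md.one (slpN md.one md.mul ps base n) sel = B) (i : ℕ) :
    md.enc ((pick 1 (slpG ps t n) sel).getD i 1) = B.getD i md.one := by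
  subst hB hb
  rw [← map_slp, ← getD_map_enc]
  congr 1
  simp only [pick, List.map_map]
  exact List.map_congr_left fun j _ => by rw [Function.comp_apply, ← md.enc_one, DTree.get_map]

end CfsgLib.Co0Model
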